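import Mathlib
import Groth.Agent.Lib.Helper6.PCurv.PCb

set_option autoImplicit false
set_option backward.isDefEq.respectTransparency.types false
set_option synthInstance.maxHeartbeats 400000
set_option maxHeartbeats 4000000
set_option linter.style.haveILetI false
set_option linter.unusedSectionVars false
set_option linter.unusedVariables false
set_option linter.unusedSimpArgs false
set_option linter.unnecessarySimpa false

/-!
# The Jacobian of a Frobenius lift is generically invertible

For commuting derivations `D_j` with `D_j^p = 0` and coordinates `t_i` (`D_j t_i = δ_ij`), the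
operator `P = ∏ D_j^{p-1}` kills every "exact top form" and sends
`det (δ_ij t_i^{p-1} + D_j f_i)` to `((p-1)!)^n`.
-/

namespace Groth.Agent.Helper2.FrobJac

open Matrix

section Abstract

variable {R A : Type*} [CommRing R] [CommRing A] [Algebra R A]
variable {ι : Type*} [Fintype ι] [DecidableEq ι]

theorem der_prod {κ : Type*} [DecidableEq κ] (D : Derivation R A A) (s : Finset κ) (a : κ → A) :
    D (∏ i ∈ s, a i) = ∑ i ∈ s, (∏ j ∈ s.erase i, a j) * D (a i) := by
  induction s using Finset.induction_on with
  | empty => simp
  | insert k s hk ih =>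
    rw [Finset.prod_insert hk, Derivation.leibniz, ih, Finset.sum_insert hk,
      Finset.erase_insert hk]
    have h : ∀ i ∈ s, (∏ j ∈ (insert k s).erase i, a j) * D (a i) =
        a k * ((∏ j ∈ s.erase i, a j) * D (a i)) := by
      intro i hi
      have hik : k ≠ i := fun h => hk (h ▸ hi)
      rw [Finset.erase_insert_of_ne hik,
        Finset.prod_insert (fun h => hk (Finset.mem_of_mem_erase h))]
      ring
    rw [Finset.sum_congr rfl h, ← Finset.mul_sum, smul_eq_mul, smul_eq_mul]
    ring

theorem det_eq_sum_perm (M : Matrix ι ι A) :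
    M.det = ∑ σ : Equiv.Perm ι, ((Equiv.Perm.sign σ : ℤ) : A) * ∏ i, M i (σ i) := by
  rw [← Matrix.det_transpose, Matrix.det_apply']
  rfl

theorem der_det (D : Derivation R A A) (N : Matrix ι ι A) :
    D N.det = ∑ i, (N.updateRow i (fun l => D (N i l))).det := by
  rw [det_eq_sum_perm N, map_sum]
  have h1 : ∀ σ : Equiv.Perm ι, D (((Equiv.Perm.sign σ : ℤ) : A) * ∏ i, N i (σ i)) =
      ∑ i, ((Equiv.Perm.sign σ : ℤ) : A) *
        ∏ l, (N.updateRow i (fun l => D (N i l))) l (σ l) := by
    intro σ
    rw [Derivation.leibniz, Derivation.map_intCast, smul_zero, add_zero, der_prod, smul_eq_mul,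
      Finset.mul_sum]
    apply Finset.sum_congr rfl
    intro i _
    congr 1
    rw [← Finset.mul_prod_erase Finset.univ _ (Finset.mem_univ i), Matrix.updateRow_self,
      mul_comm]
    congr 1
    apply Finset.prod_congr rfl
    intro j hj
    rw [Matrix.updateRow_ne (Finset.ne_of_mem_erase hj)]
  rw [Finset.sum_congr rfl (fun σ _ => h1 σ), Finset.sum_comm]
  apply Finset.sum_congr rfl
  intro i _
  rw [det_eq_sum_perm]

/-- the determinant with two rows replaced is alternating in the two new rows -/
theorem det_update2_add_swap (N : Matrix ι ι A) {k i : ι} (hki : k ≠ i) (x y : ι → A) :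
    ((N.updateRow k x).updateRow i y).det + ((N.updateRow k y).updateRow i x).det = 0 := by
  have h0 : ∀ z : ι → A, ((N.updateRow k z).updateRow i z).det = 0 := by
    intro z
    apply Matrix.det_zero_of_row_eq hki
    rw [Matrix.updateRow_self, Matrix.updateRow_ne hki, Matrix.updateRow_self]
  have hr : ∀ u v w : ι → A, ((N.updateRow k u).updateRow i (v + w)).det =
      ((N.updateRow k u).updateRow i v).det + ((N.updateRow k u).updateRow i w).det :=
    fun u v w => Matrix.det_updateRow_add _ i v w
  have hl : ∀ u u' v : ι → A, ((N.updateRow k (u + u')).updateRow i v).det =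
      ((N.updateRow k u).updateRow i v).det + ((N.updateRow k u').updateRow i v).det := by
    intro u u' v
    rw [Matrix.updateRow_comm N hki (u + u') v, Matrix.det_updateRow_add,
      Matrix.updateRow_comm N hki u v, Matrix.updateRow_comm N hki u' v]
  have h := h0 (x + y)
  rw [hr, hl, hl, h0 x, h0 y] at h
  rw [← h]
  ring

theorem det_updateRow_expand (N : Matrix ι ι A) (k : ι) (v : ι → A) :
    (N.updateRow k v).det = ∑ l, v l * (N.updateRow k (Pi.single l 1)).det := by
  have key : ∀ s : Finset ι, (N.updateRow k (∑ l ∈ s, v l • (Pi.single l 1 : ι → A))).det =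
      ∑ l ∈ s, v l * (N.updateRow k (Pi.single l 1)).det := by
    intro s
    induction s using Finset.induction_on with
    | empty =>
      rw [Finset.sum_empty, Finset.sum_empty]
      apply Matrix.det_eq_zero_of_row_eq_zero k
      intro j
      rw [Matrix.updateRow_self]
      rfl
    | insert a s ha ih =>
      rw [Finset.sum_insert ha, Finset.sum_insert ha, Matrix.det_updateRow_add,
        Matrix.det_updateRow_smul, ih]
  have hv : v = ∑ l, v l • (Pi.single l 1 : ι → A) := by
    ext j
    simp [Finset.sum_apply, Pi.single_apply]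
  conv_lhs => rw [hv]
  exact key Finset.univ

/-- Piola identity: the cofactors of a row of a matrix whose other rows are closed are
divergence free. -/
theorem piola (D : ι → Derivation R A A) (N : Matrix ι ι A) (k : ι)
    (hcl : ∀ i, i ≠ k → ∀ j l, D j (N i l) = D l (N i j)) :
    ∑ j, D j (N.updateRow k (Pi.single j 1)).det = 0 := by
  have h1 : ∀ j, D j (N.updateRow k (Pi.single j 1)).det =
      ∑ i ∈ Finset.univ.erase k, ∑ l, D j (N i l) *
        ((N.updateRow k (Pi.single j 1)).updateRow i (Pi.single l 1)).det := by
    intro j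
    rw [der_det, ← Finset.add_sum_erase Finset.univ _ (Finset.mem_univ k)]
    have hz : ((N.updateRow k (Pi.single j 1)).updateRow k
        (fun l => D j ((N.updateRow k (Pi.single j 1)) k l))).det = 0 := by
      apply Matrix.det_eq_zero_of_row_eq_zero k
      intro l
      rw [Matrix.updateRow_self]
      show D j ((N.updateRow k (Pi.single j 1)) k l) = 0
      rw [Matrix.updateRow_self, Pi.single_apply]
      split_ifs
      · exact Derivation.map_one_eq_zero _
      · exact map_zero _
    rw [hz, zero_add]
    apply Finset.sum_congr rfl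
    intro i hi
    have hik : i ≠ k := Finset.ne_of_mem_erase hi
    rw [det_updateRow_expand]
    apply Finset.sum_congr rfl
    intro l _
    rw [Matrix.updateRow_ne hik]
  rw [Finset.sum_congr rfl (fun j _ => h1 j), Finset.sum_comm]
  apply Finset.sum_eq_zero
  intro i hi
  have hik : i ≠ k := Finset.ne_of_mem_erase hi
  rw [← Fintype.sum_prod_type']
  apply Finset.sum_ninvolution (fun x : ι × ι => x.swap)
  · rintro ⟨j, l⟩
    show D j (N i l) * _ + D l (N i j) * _ = 0
    rw [hcl i hik l j, ← mul_add]
    show D j (N i l) * (((N.updateRow k (Pi.single j 1)).updateRow i (Pi.single l 1)).det +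
      ((N.updateRow k (Pi.single l 1)).updateRow i (Pi.single j 1)).det) = 0
    rw [det_update2_add_swap N hik.symm, mul_zero]
  · rintro ⟨j, l⟩ hne heq
    apply hne
    have hjl : l = j := congrArg Prod.fst heq
    subst hjl
    show D l (N i l) * ((N.updateRow k (Pi.single l 1)).updateRow i (Pi.single l 1)).det = 0
    have h2 := det_update2_add_swap N hik.symm (Pi.single l (1 : A)) (Pi.single l (1 : A))
    have h3 : ((N.updateRow k (Pi.single l 1)).updateRow i (Pi.single l (1 : A))).det = 0 := by
      apply Matrix.det_zero_of_row_eq hik.symm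
      rw [Matrix.updateRow_self, Matrix.updateRow_ne hik.symm, Matrix.updateRow_self]
    rw [h3, mul_zero]
  · intro a
    exact Finset.mem_univ _
  · rintro ⟨j, l⟩
    rfl

/-- a determinant with one exact row and all other rows closed is killed by every additive
functional that kills all `D j a`. -/
theorem P_det_exact_row (D : ι → Derivation R A A) (P : A →+ A) (hP : ∀ j a, P (D j a) = 0)
    (N : Matrix ι ι A) (k : ι) (g : A) (hk : ∀ j, N k j = D j g)
    (hcl : ∀ i, i ≠ k → ∀ j l, D j (N i l) = D l (N i j)) : P N.det = 0 := by
  have h1 : N.det = ∑ j, D j (g * (N.updateRow k (Pi.single j 1)).det) := by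
    have h2 : ∀ j, D j (g * (N.updateRow k (Pi.single j 1)).det) =
        g * D j (N.updateRow k (Pi.single j 1)).det +
          D j g * (N.updateRow k (Pi.single j 1)).det := by
      intro j
      rw [Derivation.leibniz, smul_eq_mul, smul_eq_mul, mul_comm (Matrix.det _)]
    rw [Finset.sum_congr rfl (fun j _ => h2 j), Finset.sum_add_distrib, ← Finset.mul_sum,
      piola D N k hcl, mul_zero, zero_add]
    conv_lhs => rw [← Matrix.updateRow_eq_self N k]
    rw [det_updateRow_expand]
    apply Finset.sum_congr rfl
    intro j _
    rw [hk j]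
  rw [h1, map_sum]
  exact Finset.sum_eq_zero (fun j _ => hP j _)

theorem P_det_main (D : ι → Derivation R A A) (hcomm : ∀ i j a, D i (D j a) = D j (D i a))
    (P : A →+ A) (hP : ∀ j a, P (D j a) = 0)
    (c f : ι → A) (hc : ∀ i j, j ≠ i → D j (c i) = 0) :
    P (Matrix.of fun i j => (if i = j then c i else 0) + D j (f i)).det = P (∏ i, c i) := by
  have key : ∀ S : Finset ι, P (Matrix.of fun i j => (if i = j then c i else 0) +
      (if i ∈ S then D j (f i) else 0)).det = P (∏ i, c i) := by
    intro S
    induction S using Finset.induction_on with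
    | empty =>
      have h : (Matrix.of fun i j => (if i = j then c i else 0) +
          (if i ∈ (∅ : Finset ι) then D j (f i) else 0)) = Matrix.diagonal c := by
        ext i j
        simp [Matrix.diagonal_apply]
      rw [h, Matrix.det_diagonal]
    | insert k S hk ih =>
      obtain ⟨M0, hM0⟩ : ∃ M0 : Matrix ι ι A, M0 = Matrix.of fun i j =>
          (if i = j then c i else 0) + (if i ∈ S then D j (f i) else 0) := ⟨_, rfl⟩
      have hM0a : ∀ i j, M0 i j = (if i = j then c i else 0) +
          (if i ∈ S then D j (f i) else 0) := by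
        intro i j
        rw [hM0]
        rfl
      have e : (Matrix.of fun i j => (if i = j then c i else 0) +
          (if i ∈ insert k S then D j (f i) else 0)) =
          M0.updateRow k (M0 k + fun j => D j (f k)) := by
        ext i j
        by_cases hik : i = k
        · rw [hik, Matrix.updateRow_self, Matrix.of_apply, Pi.add_apply, hM0a, if_neg hk,
            if_pos (Finset.mem_insert_self k S), add_zero]
        · rw [Matrix.updateRow_ne hik, Matrix.of_apply, hM0a]
          congr 1
          by_cases hiS : i ∈ S
          · rw [if_pos hiS, if_pos (Finset.mem_insert_of_mem hiS)]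
          · rw [if_neg hiS, if_neg (fun h => (Finset.mem_insert.mp h).elim hik hiS)]
      rw [← hM0] at ih
      rw [e, Matrix.det_updateRow_add, Matrix.updateRow_eq_self, map_add, ih]
      have hz : P (M0.updateRow k (fun j => D j (f k))).det = 0 := by
        apply P_det_exact_row D P hP _ k (f k)
        · intro j
          rw [Matrix.updateRow_self]
        · intro i hik j l
          rw [Matrix.updateRow_ne hik, hM0a, hM0a, map_add, map_add]
          congr 1
          · by_cases hil : i = l
            · by_cases hij : i = j
              · rw [← hil, ← hij]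
              · rw [if_pos hil, if_neg hij, map_zero]
                exact hc i j (Ne.symm hij)
            · by_cases hij : i = j
              · rw [if_neg hil, if_pos hij, map_zero]
                exact (hc i l (Ne.symm hil)).symm
              · rw [if_neg hil, if_neg hij, map_zero, map_zero]
          · by_cases hiS : i ∈ S
            · rw [if_pos hiS, if_pos hiS]
              exact hcomm j l (f i)
            · rw [if_neg hiS, if_neg hiS, map_zero, map_zero]
      rw [hz, add_zero]
  have h := key Finset.univ
  have e2 : (Matrix.of fun i j => (if i = j then c i else 0) +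
      (if i ∈ (Finset.univ : Finset ι) then D j (f i) else 0)) =
      Matrix.of fun i j => (if i = j then c i else 0) + D j (f i) := by
    ext i j
    rw [Matrix.of_apply, Matrix.of_apply, if_pos (Finset.mem_univ i)]
  rw [e2] at h
  exact h

/-! ### The top operator along a list -/

/-- `∏_{j ∈ l} D_j^m` -/
def Pl (D : ι → Derivation R A A) (m : ℕ) : List ι → A → A
  | [] => id
  | j :: l => fun a => (D j)^[m] (Pl D m l a)

theorem Pl_cons (D : ι → Derivation R A A) (m : ℕ) (j : ι) (l : List ι) (a : A) :
    Pl D m (j :: l) a = (D j)^[m] (Pl D m l a) := rfl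

theorem Pl_add (D : ι → Derivation R A A) (m : ℕ) (l : List ι) (a b : A) :
    Pl D m l (a + b) = Pl D m l a + Pl D m l b := by
  induction l with
  | nil => rfl
  | cons j l ih => rw [Pl_cons, Pl_cons, Pl_cons, ih, iterate_map_add]

theorem Pl_zero (D : ι → Derivation R A A) (m : ℕ) (l : List ι) : Pl D m l 0 = 0 := by
  induction l with
  | nil => rfl
  | cons j l ih => rw [Pl_cons, ih, iterate_map_zero]

theorem iter_comm (D : ι → Derivation R A A) (hcomm : ∀ i j a, D i (D j a) = D j (D i a))
    (i j : ι) (m : ℕ) (a : A) : D i ((D j)^[m] a) = (D j)^[m] (D i a) := by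
  induction m generalizing a with
  | zero => rfl
  | succ m ih => rw [Function.iterate_succ_apply, Function.iterate_succ_apply, ih, hcomm]

theorem Pl_comm (D : ι → Derivation R A A) (hcomm : ∀ i j a, D i (D j a) = D j (D i a))
    (m : ℕ) (l : List ι) (i : ι) (a : A) : D i (Pl D m l a) = Pl D m l (D i a) := by
  induction l with
  | nil => rfl
  | cons j l ih => rw [Pl_cons, Pl_cons, iter_comm D hcomm, ih]

theorem Pl_D_eq_zero (D : ι → Derivation R A A) (hcomm : ∀ i j a, D i (D j a) = D j (D i a))
    (m : ℕ) (hnil : ∀ j a, (D j)^[m + 1] a = 0) (l : List ι) (j : ι) (hj : j ∈ l) (a : A) :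
    Pl D m l (D j a) = 0 := by
  induction l with
  | nil => exact absurd hj (List.not_mem_nil)
  | cons i l ih =>
    rw [Pl_cons]
    rcases List.mem_cons.mp hj with h | h
    · rw [h, ← Pl_comm D hcomm, ← Function.iterate_succ_apply]
      exact hnil i _
    · rw [ih h, iterate_map_zero]

theorem iter_mul_const (E : Derivation R A A) (u : A) (hu : E u = 0) (m : ℕ) (x : A) :
    E^[m] (u * x) = u * E^[m] x := by
  induction m generalizing x with
  | zero => rfl
  | succ m ih =>
    rw [Function.iterate_succ_apply, Function.iterate_succ_apply, Derivation.leibniz, hu,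
      smul_zero, add_zero, smul_eq_mul, ih]

theorem Pl_mul_const (D : ι → Derivation R A A) (m : ℕ) (l : List ι) (u : A)
    (hu : ∀ j ∈ l, D j u = 0) (x : A) : Pl D m l (u * x) = u * Pl D m l x := by
  induction l with
  | nil => rfl
  | cons j l ih =>
    rw [Pl_cons, Pl_cons, ih (fun i hi => hu i (List.mem_cons_of_mem _ hi)),
      iter_mul_const (D j) u (hu j List.mem_cons_self)]

theorem iter_pow (E : Derivation R A A) (t : A) (ht : E t = 1) (m : ℕ) (c : A) (hc : E c = 0) :
    E^[m] (t ^ m * c) = (m.factorial : A) * c := by
  induction m generalizing c with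
  | zero => simp
  | succ m ih =>
    rw [Function.iterate_succ_apply]
    have h1 : E (t ^ (m + 1) * c) = t ^ m * (((m + 1 : ℕ) : A) * c) := by
      rw [Derivation.leibniz, hc, smul_zero, zero_add, Derivation.leibniz_pow, ht, smul_eq_mul,
        Nat.add_sub_cancel, nsmul_eq_mul, smul_eq_mul, mul_one]
      ring
    rw [h1, ih]
    · rw [Nat.factorial_succ]
      push_cast
      ring
    · rw [Derivation.leibniz, hc, Derivation.map_natCast, smul_zero, smul_zero, add_zero]

theorem Pl_top (D : ι → Derivation R A A) (t : ι → A)
    (ht : ∀ i j, D j (t i) = if i = j then 1 else 0) (m : ℕ) (l : List ι) (hl : l.Nodup) :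
    Pl D m l ((l.map fun i => t i ^ m).prod) = ((m.factorial ^ l.length : ℕ) : A) := by
  induction l with
  | nil => simp [Pl]
  | cons j l ih =>
    have hjl : j ∉ l := (List.nodup_cons.mp hl).1
    have hl' : l.Nodup := (List.nodup_cons.mp hl).2
    rw [List.map_cons, List.prod_cons, Pl_cons, Pl_mul_const, ih hl']
    · have h := iter_pow (D j) (t j) (by rw [ht j j, if_pos rfl]) m
        ((m.factorial ^ l.length : ℕ) : A) (Derivation.map_natCast _ _)
      rw [h, List.length_cons, pow_succ]
      push_cast
      ring
    · intro i hi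
      have hij : j ≠ i := fun h => hjl (h ▸ hi)
      rw [Derivation.leibniz_pow, ht j i, if_neg hij, smul_zero, smul_zero]

end Abstract

section Concrete

variable {k : Type*} {A : Type*} [Field k] [CommRing A] [Algebra k A]
variable {n : ℕ} (b : Module.Basis (Fin n) A (KaehlerDifferential k A)) (t : Fin n → A)

/-- the coordinate derivations -/
noncomputable def Dj (j : Fin n) : Derivation k A A :=
  (b.coord j).compDer (KaehlerDifferential.D k A)

theorem Dj_apply (j : Fin n) (a : A) :
    Dj b j a = b.coord j (KaehlerDifferential.D k A a) := rfl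

variable (hb : ∀ i, b i = KaehlerDifferential.D k A (t i))

include hb in
theorem Dj_t (i j : Fin n) : Dj b j (t i) = if i = j then 1 else 0 := by
  rw [Dj_apply, ← hb i, Module.Basis.coord_apply, Module.Basis.repr_self, Finsupp.single_apply]

include hb in
theorem der_eq_zero_of_t (E : Derivation k A A) (hE : ∀ i, E (t i) = 0) : E = 0 := by
  have h1 : E.liftKaehlerDifferential = 0 := by
    apply b.ext
    intro i
    rw [hb i, Derivation.liftKaehlerDifferential_comp_D, hE i, LinearMap.zero_apply]
  ext a
  rw [← Derivation.liftKaehlerDifferential_comp_D E a, h1]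
  rfl

include hb in
theorem Dj_comm (i j : Fin n) (a : A) : Dj b i (Dj b j a) = Dj b j (Dj b i a) := by
  have h : ⁅Dj b i, Dj b j⁆ = 0 := by
    apply der_eq_zero_of_t b t hb
    intro l
    rw [Derivation.commutator_apply, Dj_t b t hb, Dj_t b t hb]
    have e1 : Dj b i (if l = j then (1 : A) else 0) = 0 := by
      split_ifs
      · exact Derivation.map_one_eq_zero _
      · exact map_zero _
    have e2 : Dj b j (if l = i then (1 : A) else 0) = 0 := by
      split_ifs
      · exact Derivation.map_one_eq_zero _
      · exact map_zero _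
    rw [e1, e2, sub_zero]
  have h2 := Derivation.congr_fun h a
  rw [Derivation.commutator_apply] at h2
  exact sub_eq_zero.mp h2

include hb in
theorem Dj_iter_p (p : ℕ) [Fact p.Prime] [CharP A p] (j : Fin n) (a : A) :
    (Dj b j)^[p] a = 0 := by
  have h : Groth.Agent.Lib.Helper6.PCurv.iterDer p (Dj b j) = 0 := by
    apply der_eq_zero_of_t b t hb
    intro i
    rw [Groth.Agent.Lib.Helper6.PCurv.iterDer_apply]
    obtain ⟨m, hm⟩ : ∃ m, p = m + 1 + 1 :=
      ⟨p - 2, by have := (Fact.out : p.Prime).two_le; omega⟩
    rw [hm, Function.iterate_succ_apply, Dj_t b t hb, Function.iterate_succ_apply]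
    have e1 : Dj b j (if i = j then (1 : A) else 0) = 0 := by
      split_ifs
      · exact Derivation.map_one_eq_zero _
      · exact map_zero _
    rw [e1, iterate_map_zero]
  have h2 := Derivation.congr_fun h a
  rw [Groth.Agent.Lib.Helper6.PCurv.iterDer_apply] at h2
  exact h2

end Concrete

theorem main18154 (p : ℕ) [Fact p.Prime] {k : Type*} [Field k] [CharP k p]
    {A : Type*} [CommRing A] [IsDomain A] [Algebra k A] {n : ℕ} (t : Fin n → A)
    (b : Module.Basis (Fin n) A (KaehlerDifferential k A))
    (hb : ∀ i, b i = KaehlerDifferential.D k A (t i)) (f : Fin n → A) :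
    (Matrix.of fun i j : Fin n => (if i = j then t i ^ (p - 1) else 0) +
      b.coord j (KaehlerDifferential.D k A (f i))).det ≠ 0 := by
  haveI : CharP A p := charP_of_injective_algebraMap (algebraMap k A).injective p
  have hp : (Fact.out : p.Prime) = (Fact.out : p.Prime) := rfl
  have hp2 : 2 ≤ p := (Fact.out : p.Prime).two_le
  intro h0
  obtain ⟨P, hPdef⟩ : ∃ P : A →+ A, ∀ a, P a = Pl (Dj b) (p - 1) (List.finRange n) a :=
    ⟨AddMonoidHom.mk' (Pl (Dj b) (p - 1) (List.finRange n)) (Pl_add _ _ _), fun _ => rfl⟩
  have hnil : ∀ j a, (Dj b j)^[p - 1 + 1] a = 0 := by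
    intro j a
    rw [show p - 1 + 1 = p by omega]
    exact Dj_iter_p b t hb p j a
  have hP : ∀ j a, P (Dj b j a) = 0 := by
    intro j a
    rw [hPdef]
    exact Pl_D_eq_zero (Dj b) (Dj_comm b t hb) (p - 1) hnil _ j (List.mem_finRange j) a
  have hc : ∀ i j : Fin n, j ≠ i → Dj b j (t i ^ (p - 1)) = 0 := by
    intro i j hji
    rw [Derivation.leibniz_pow, Dj_t b t hb, if_neg (Ne.symm hji), smul_zero, smul_zero]
  have hmain := P_det_main (Dj b) (Dj_comm b t hb) P hP (fun i => t i ^ (p - 1)) f hc
  have e : (Matrix.of fun i j : Fin n => (if i = j then (fun i => t i ^ (p - 1)) i else 0) +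
      Dj b j (f i)) = Matrix.of fun i j : Fin n => (if i = j then t i ^ (p - 1) else 0) +
      b.coord j (KaehlerDifferential.D k A (f i)) := rfl
  rw [e, h0, map_zero, hPdef, Fin.prod_univ_def,
    Pl_top (Dj b) t (Dj_t b t hb) (p - 1) _ (List.nodup_finRange n)] at hmain
  have h3 : ((p - 1).factorial ^ (List.finRange n).length : ℕ) ≠ 0 ∧
      ¬ p ∣ ((p - 1).factorial ^ (List.finRange n).length : ℕ) := by
    constructor
    · exact pow_ne_zero _ (Nat.factorial_ne_zero _)
    · intro hd
      have := (Fact.out : p.Prime).dvd_of_dvd_pow hd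
      rw [(Fact.out : p.Prime).dvd_factorial] at this
      omega
  exact h3.2 ((CharP.cast_eq_zero_iff A p _).mp hmain.symm)

end Groth.Agent.Helper2.FrobJac
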